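import Mathlib

/-!
# Tight systems (helper3, for S3786)
-/

set_option autoImplicit false

namespace Cfsg.Agent.Helper3.HHX

open Subgroup

variable {Γ : Type*} [Group Γ]

/-- A system of *tight* pairs `(z, k)` for a `p`-group `S` acting on `Q`:
`z ^ p ^ k = 1`, closed under `S`-conjugation, and `z ^ p ^ (k-1)` centralises every
abelian `z`-invariant subgroup of `Q`. -/
structure TightSys (p : ℕ) (Q S : Subgroup Γ) (T : Γ → ℕ → Prop) : Prop where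
  pos : ∀ z k, T z k → 1 ≤ k
  pow : ∀ z k, T z k → z ^ p ^ k = 1
  conj : ∀ z k, T z k → ∀ s ∈ S, T (s * z * s⁻¹) k
  bb : ∀ z k, T z k → z ∈ S → ∀ A : Subgroup Γ, A ≤ Q → (∀ x ∈ A, ∀ y ∈ A, x * y = y * x) →
    (∀ x ∈ A, z * x * z⁻¹ ∈ A) → ∀ x ∈ A, z ^ p ^ (k - 1) * x = x * z ^ p ^ (k - 1)

end Cfsg.Agent.Helper3.HHX
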