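import Mathlib
import Cfsg.Agent.Lib.Helper3.HH.Defs

/-!
# Auxiliary lemmas for `core` (helper3, S3786)
-/

set_option autoImplicit false

namespace Cfsg.Agent.Helper3.HHX

open Subgroup
open scoped commutatorElement

variable {Γ : Type*} [Group Γ]

theorem TightSys.mono {p : ℕ} {Q S Q' S' : Subgroup Γ} {T : Γ → ℕ → Prop}
    (h : TightSys p Q S T) (hQ : Q' ≤ Q) (hS : S' ≤ S) : TightSys p Q' S' T :=
  ⟨h.pos, h.pow, fun z k hz s hs => h.conj z k hz s (hS hs),
    fun z k hz hzS A hA => h.bb z k hz (hS hzS) A (hA.trans hQ)⟩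

/-- a non-cyclic `p`-group `S` has a proper `S`-invariant subgroup containing a given element -/
theorem exists_normal_proper [Finite Γ] {p : ℕ} [Fact p.Prime] (S : Subgroup Γ)
    (hS : IsPGroup p S) (z : Γ) (hz : z ∈ S) (hne : ¬ S ≤ zpowers z) :
    ∃ S' : Subgroup Γ, S' ≤ S ∧ Nat.card S' < Nat.card S ∧ z ∈ S' ∧
      ∀ s ∈ S, ∀ x ∈ S', s * x * s⁻¹ ∈ S' := by
  classical
  haveI : Group.IsNilpotent ↥S := hS.isNilpotent
  have hH : (zpowers z).subgroupOf S ≠ ⊤ := by
    intro h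
    apply hne
    rw [subgroupOf_eq_top] at h
    exact h
  obtain ⟨M, hM, hHM⟩ := (eq_top_or_exists_le_coatom ((zpowers z).subgroupOf S)).resolve_left hH
  have hMn : M.Normal := NormalizerCondition.normal_of_coatom M normalizerCondition_of_isNilpotent hM
  refine ⟨M.map S.subtype, map_subtype_le M, ?_, ?_, ?_⟩
  · rw [card_map_of_injective S.subtype_injective]
    have h1 : Nat.card ↥M ≤ Nat.card ↥S := Subgroup.card_le_card_group M
    apply lt_of_le_of_ne h1
    intro heq
    exact hM.1 (Subgroup.card_eq_iff_eq_top M |>.mp heq)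
  · refine mem_map.mpr ⟨⟨z, hz⟩, hHM ?_, rfl⟩
    rw [mem_subgroupOf]
    exact mem_zpowers z
  · rintro s hs _ ⟨x, hx, rfl⟩
    refine mem_map.mpr ⟨⟨s, hs⟩ * x * ⟨s, hs⟩⁻¹, hMn.conj_mem x hx ⟨s, hs⟩, rfl⟩

/-- the derived subgroup of a nontrivial `q`-group is proper -/
theorem commutator_lt_of_pgroup [Finite Γ] {q : ℕ} [Fact q.Prime] {B : Subgroup Γ}
    (hBp : IsPGroup q B) (hB : B ≠ ⊥) : ⁅B, B⁆ < B := by
  haveI : Group.IsNilpotent ↥B := hBp.isNilpotent
  haveI : Nontrivial ↥B := (Subgroup.nontrivial_iff_ne_bot B).2 hB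
  have h1 : _root_.commutator ↥B < ⊤ := Group.IsSolvable.commutator_lt_top_of_nontrivial ↥B
  have h2 := (Subgroup.map_lt_map_iff_of_injective B.subtype_injective).2 h1
  rwa [Subgroup.map_subtype_commutator, ← MonoidHom.range_eq_map, Subgroup.range_subtype] at h2

section modC

variable (Q : Subgroup Γ) (s : Set Γ) (hs : s ⊆ (normalizer (Q : Set Γ) : Set Γ))

include hs in
/-- lifting the closure to the normaliser, with image in the closure of the images -/
theorem exists_lift_closure (x : Γ) (hx : x ∈ closure s) :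
    ∃ x' : ↥(normalizer (Q : Set Γ)), (x' : Γ) = x ∧
      Q.normalizerMonoidHom x' ∈ closure (Q.normalizerMonoidHom ''
        {y : ↥(normalizer (Q : Set Γ)) | (y : Γ) ∈ s}) := by
  have h1 : closure s ≤ ((closure (Q.normalizerMonoidHom ''
      {y : ↥(normalizer (Q : Set Γ)) | (y : Γ) ∈ s})).comap Q.normalizerMonoidHom).map
      (normalizer (Q : Set Γ)).subtype := by
    rw [closure_le]
    intro y hy
    refine mem_map.mpr ⟨⟨y, hs hy⟩, ?_, rfl⟩
    rw [mem_comap]
    exact subset_closure ⟨⟨y, hs hy⟩, hy, rfl⟩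
  obtain ⟨x', hx', rfl⟩ := mem_map.mp (h1 hx)
  exact ⟨x', rfl, mem_comap.mp hx'⟩

theorem normalizerMonoidHom_eq_one_iff (x : ↥(normalizer (Q : Set Γ))) :
    Q.normalizerMonoidHom x = 1 ↔ (x : Γ) ∈ centralizer (Q : Set Γ) := by
  rw [← MonoidHom.mem_ker, normalizerMonoidHom_ker, mem_subgroupOf]

include hs in
/-- generators commuting modulo `C(Q)` generate a group that is abelian modulo `C(Q)` -/
theorem comm_mod_of_closure
    (hcomm : ∀ x ∈ s, ∀ y ∈ s, x * y * x⁻¹ * y⁻¹ ∈ centralizer (Q : Set Γ)) :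
    ∀ x ∈ closure s, ∀ y ∈ closure s, x * y * x⁻¹ * y⁻¹ ∈ centralizer (Q : Set Γ) := by
  have hW : ∀ u ∈ Q.normalizerMonoidHom '' {y : ↥(normalizer (Q : Set Γ)) | (y : Γ) ∈ s},
      ∀ v ∈ Q.normalizerMonoidHom '' {y : ↥(normalizer (Q : Set Γ)) | (y : Γ) ∈ s},
      u * v = v * u := by
    rintro _ ⟨x, hx, rfl⟩ _ ⟨y, hy, rfl⟩
    have h1 := hcomm x hx y hy
    have h2 : Q.normalizerMonoidHom (x * y * x⁻¹ * y⁻¹) = 1 := by
      rw [normalizerMonoidHom_eq_one_iff]
      exact h1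
    rw [map_mul, map_mul, map_mul, map_inv, map_inv] at h2
    calc Q.normalizerMonoidHom x * Q.normalizerMonoidHom y
        = (Q.normalizerMonoidHom x * Q.normalizerMonoidHom y * (Q.normalizerMonoidHom x)⁻¹ *
          (Q.normalizerMonoidHom y)⁻¹) * (Q.normalizerMonoidHom y * Q.normalizerMonoidHom x) := by
          group
      _ = Q.normalizerMonoidHom y * Q.normalizerMonoidHom x := by rw [h2, one_mul]
  have hcl := Subgroup.isMulCommutative_closure hW
  intro x hx y hy
  obtain ⟨x', rfl, hx'⟩ := exists_lift_closure Q s hs x hx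
  obtain ⟨y', rfl, hy'⟩ := exists_lift_closure Q s hs y hy
  have h1 := hcl.is_comm.comm ⟨_, hx'⟩ ⟨_, hy'⟩
  have h2 : Q.normalizerMonoidHom x' * Q.normalizerMonoidHom y' =
      Q.normalizerMonoidHom y' * Q.normalizerMonoidHom x' := congrArg Subtype.val h1
  have h3 : Q.normalizerMonoidHom (x' * y' * x'⁻¹ * y'⁻¹) = 1 := by
    rw [map_mul, map_mul, map_mul, map_inv, map_inv, h2]
    group
  rw [normalizerMonoidHom_eq_one_iff] at h3
  exact h3

include hs in
/-- generators commuting modulo `C(Q)` with `p`-th powers in `C(Q)` generate a group of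
exponent `p` modulo `C(Q)` -/
theorem pow_mod_of_closure (p : ℕ)
    (hcomm : ∀ x ∈ s, ∀ y ∈ s, x * y * x⁻¹ * y⁻¹ ∈ centralizer (Q : Set Γ))
    (hpow : ∀ x ∈ s, x ^ p ∈ centralizer (Q : Set Γ)) :
    ∀ x ∈ closure s, x ^ p ∈ centralizer (Q : Set Γ) := by
  have hW : ∀ u ∈ Q.normalizerMonoidHom '' {y : ↥(normalizer (Q : Set Γ)) | (y : Γ) ∈ s},
      ∀ v ∈ Q.normalizerMonoidHom '' {y : ↥(normalizer (Q : Set Γ)) | (y : Γ) ∈ s},
      u * v = v * u := by
    rintro _ ⟨x, hx, rfl⟩ _ ⟨y, hy, rfl⟩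
    have h1 := hcomm x hx y hy
    have h2 : Q.normalizerMonoidHom (x * y * x⁻¹ * y⁻¹) = 1 := by
      rw [normalizerMonoidHom_eq_one_iff]
      exact h1
    rw [map_mul, map_mul, map_mul, map_inv, map_inv] at h2
    calc Q.normalizerMonoidHom x * Q.normalizerMonoidHom y
        = (Q.normalizerMonoidHom x * Q.normalizerMonoidHom y * (Q.normalizerMonoidHom x)⁻¹ *
          (Q.normalizerMonoidHom y)⁻¹) * (Q.normalizerMonoidHom y * Q.normalizerMonoidHom x) := by
          group
      _ = Q.normalizerMonoidHom y * Q.normalizerMonoidHom x := by rw [h2, one_mul]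
  have hcl := Subgroup.isMulCommutative_closure hW
  have hall : ∀ u ∈ closure (Q.normalizerMonoidHom ''
      {y : ↥(normalizer (Q : Set Γ)) | (y : Γ) ∈ s}), u ^ p = 1 := by
    intro u hu
    induction hu using Subgroup.closure_induction with
    | mem u hu =>
      obtain ⟨x, hx, rfl⟩ := hu
      rw [← map_pow, normalizerMonoidHom_eq_one_iff]
      exact hpow x hx
    | one => exact one_pow p
    | mul u v hu hv ihu ihv =>
      have h1 := hcl.is_comm.comm ⟨u, hu⟩ ⟨v, hv⟩
      have h2 : Commute u v := congrArg Subtype.val h1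
      rw [h2.mul_pow, ihu, ihv, one_mul]
    | inv u hu ihu => rw [inv_pow, ihu, inv_one]
  intro x hx
  obtain ⟨x', rfl, hx'⟩ := exists_lift_closure Q s hs x hx
  have h1 := hall _ hx'
  rw [← map_pow, normalizerMonoidHom_eq_one_iff] at h1
  exact h1

end modC

end Cfsg.Agent.Helper3.HHX
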