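import Mathlib

/-!
# Elementary lemmas for `step3` (helper3, S3786)
-/

set_option autoImplicit false

namespace Cfsg.Agent.Helper3.HHX

open Subgroup

variable {Γ : Type*} [Group Γ]

/-- the conjugate subgroup `w B w⁻¹` -/
def cj (w : Γ) (B : Subgroup Γ) : Subgroup Γ := B.map (MulAut.conj w).toMonoidHom

theorem mem_cj {w x : Γ} {B : Subgroup Γ} : x ∈ cj w B ↔ w⁻¹ * x * w ∈ B := by
  unfold cj
  rw [Subgroup.mem_map_equiv]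
  rfl

theorem conj_mem_cj {w x : Γ} {B : Subgroup Γ} (hx : x ∈ B) : w * x * w⁻¹ ∈ cj w B := by
  rw [mem_cj]
  have : w⁻¹ * (w * x * w⁻¹) * w = x := by group
  rw [this]
  exact hx

theorem mem_normalizer_of_cj_eq {w : Γ} {B : Subgroup Γ} (h : cj w B = B) :
    w ∈ normalizer (B : Set Γ) := by
  rw [mem_normalizer_iff]
  intro x
  have h1 : w * x * w⁻¹ ∈ cj w B ↔ w * x * w⁻¹ ∈ B := by rw [h]
  rw [← h1, mem_cj]
  have : w⁻¹ * (w * x * w⁻¹) * w = x := by group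
  rw [this]

/-- In a cyclic `p`-group every non-trivial subgroup contains the socle. -/
theorem socle_mem_of_pow_mem {p : ℕ} [hp : Fact p.Prime] (z : Γ) (k : ℕ) (hk : 1 ≤ k)
    (hzk : z ^ p ^ k = 1) (N : Subgroup Γ) (i : ℕ) (hi : z ^ i ∈ N) (hne : z ^ i ≠ 1) :
    z ^ p ^ (k - 1) ∈ N := by
  have hd : Nat.gcd i (p ^ k) ∣ p ^ k := Nat.gcd_dvd_right _ _
  obtain ⟨s, hsk, hs⟩ := (Nat.dvd_prime_pow hp.out).mp hd
  have hmem : z ^ (Nat.gcd i (p ^ k)) ∈ N := by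
    have h1 : (z ^ (Nat.gcd i (p ^ k)) : Γ) = z ^ ((Nat.gcd i (p ^ k) : ℕ) : ℤ) := by
      rw [zpow_natCast]
    rw [h1, Nat.gcd_eq_gcd_ab, zpow_add, zpow_mul, zpow_mul, zpow_natCast, zpow_natCast, hzk,
      one_zpow, mul_one]
    exact N.zpow_mem hi _
  rw [hs] at hmem
  have hsk' : s ≤ k - 1 := by
    by_contra hcon
    have : s = k := by omega
    rw [this] at hs
    have h2 : p ^ k ∣ i := by
      rw [← hs]
      exact Nat.gcd_dvd_left _ _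
    obtain ⟨m, rfl⟩ := h2
    apply hne
    rw [pow_mul, hzk, one_pow]
  have h3 : z ^ p ^ (k - 1) = (z ^ p ^ s) ^ p ^ (k - 1 - s) := by
    rw [← pow_mul, ← pow_add]
    congr 2
    omega
  rw [h3]
  exact N.pow_mem hmem _

/-- **Lemma γ.** If `β` fixes `u` and centralises the commutator `[u, r]` then `u` commutes
with `r⁻¹ (β r β⁻¹)`. -/
theorem comm_of_fix {β u r : Γ} (hu : β * u * β⁻¹ = u)
    (hc : β * (u * r * u⁻¹ * r⁻¹) = (u * r * u⁻¹ * r⁻¹) * β) :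
    u * (r⁻¹ * (β * r * β⁻¹)) = (r⁻¹ * (β * r * β⁻¹)) * u := by
  have h1 : β * (u * r * u⁻¹ * r⁻¹) * β⁻¹ = u * r * u⁻¹ * r⁻¹ := by
    rw [hc]; group
  have h2 : β * (u * r * u⁻¹ * r⁻¹) * β⁻¹ =
      (β * u * β⁻¹) * (β * r * β⁻¹) * (β * u * β⁻¹)⁻¹ * (β * r * β⁻¹)⁻¹ := by group
  rw [h2, hu] at h1
  -- h1 : u * r' * u⁻¹ * r'⁻¹ = u * r * u⁻¹ * r⁻¹
  have h3 : (r⁻¹ * (β * r * β⁻¹)) * u⁻¹ * (r⁻¹ * (β * r * β⁻¹))⁻¹ = u⁻¹ := by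
    have e1 : (r⁻¹ * (β * r * β⁻¹)) * u⁻¹ * (r⁻¹ * (β * r * β⁻¹))⁻¹ =
        r⁻¹ * u⁻¹ * (u * (β * r * β⁻¹) * u⁻¹ * (β * r * β⁻¹)⁻¹) * r := by group
    rw [e1, h1]
    group
  have h4 : (r⁻¹ * (β * r * β⁻¹)) * u⁻¹ = u⁻¹ * (r⁻¹ * (β * r * β⁻¹)) := by
    calc (r⁻¹ * (β * r * β⁻¹)) * u⁻¹
        = ((r⁻¹ * (β * r * β⁻¹)) * u⁻¹ * (r⁻¹ * (β * r * β⁻¹))⁻¹) * (r⁻¹ * (β * r * β⁻¹)) := by
          group
      _ = u⁻¹ * (r⁻¹ * (β * r * β⁻¹)) := by rw [h3]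
  calc u * (r⁻¹ * (β * r * β⁻¹)) = u * ((r⁻¹ * (β * r * β⁻¹)) * u⁻¹) * u := by group
    _ = u * (u⁻¹ * (r⁻¹ * (β * r * β⁻¹))) * u := by rw [h4]
    _ = (r⁻¹ * (β * r * β⁻¹)) * u := by group

/-- admissible subgroups ("hyperplanes" of `E` over the kernel of the action on `Q`) -/
def Adm (Q E B : Subgroup Γ) : Prop :=
  B ≤ E ∧ E ⊓ centralizer (Q : Set Γ) ≤ B ∧
    ∀ x ∈ E, x ∉ B → ∀ y ∈ E, ∃ i : ℕ, y * x ^ i ∈ B

/-- two distinct admissible subgroups generate `E` -/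
theorem Adm.decomp {Q E B B' : Subgroup Γ} (hB : Adm Q E B) (hB' : Adm Q E B') (hne : B' ≠ B)
    (e : Γ) (he : e ∈ E) : ∃ β' ∈ B', ∃ β ∈ B, e = β' * β := by
  have h1 : ¬ B ≤ B' ∨ ¬ B' ≤ B := by
    by_contra hcon
    push Not at hcon
    exact hne (le_antisymm hcon.2 hcon.1)
  rcases h1 with h1 | h1
  · obtain ⟨x, hxB, hxB'⟩ := SetLike.not_le_iff_exists.mp h1
    obtain ⟨i, hi⟩ := hB'.2.2 x (hB.1 hxB) hxB' e he
    refine ⟨e * x ^ i, hi, (x ^ i)⁻¹, B.inv_mem (B.pow_mem hxB i), ?_⟩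
    group
  · obtain ⟨x, hxB', hxB⟩ := SetLike.not_le_iff_exists.mp h1
    obtain ⟨i, hi⟩ := hB.2.2 x (hB'.1 hxB') hxB e⁻¹ (E.inv_mem he)
    refine ⟨x ^ i, B'.pow_mem hxB' i, (e⁻¹ * x ^ i)⁻¹, B.inv_mem hi, ?_⟩
    group

/-- admissible subgroups are normal in `E` -/
theorem Adm.conj_mem {Q E B : Subgroup Γ} (hB : Adm Q E B)
    (hEab : ∀ x ∈ E, ∀ y ∈ E, x * y * x⁻¹ * y⁻¹ ∈ centralizer (Q : Set Γ))
    {x y : Γ} (hx : x ∈ E) (hy : y ∈ B) : x * y * x⁻¹ ∈ B := by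
  have h1 : x * y * x⁻¹ * y⁻¹ ∈ B :=
    hB.2.1 ⟨E.mul_mem (E.mul_mem (E.mul_mem hx (hB.1 hy)) (E.inv_mem hx)) (E.inv_mem (hB.1 hy)),
      hEab x hx y (hB.1 hy)⟩
  have h2 : x * y * x⁻¹ = (x * y * x⁻¹ * y⁻¹) * y := by group
  rw [h2]
  exact B.mul_mem h1 hy

/-- conjugates of admissible subgroups are admissible -/
theorem Adm.cj {Q E B : Subgroup Γ} (hB : Adm Q E B) {w : Γ}
    (hwQ : w ∈ normalizer (Q : Set Γ)) (hwE : w ∈ normalizer (E : Set Γ)) :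
    Adm Q E (cj w B) := by
  have hwE' : ∀ x, x ∈ E ↔ w⁻¹ * x * w ∈ E := mem_normalizer_iff''.mp hwE
  have hwQ' : ∀ x, x ∈ Q ↔ w * x * w⁻¹ ∈ Q := mem_normalizer_iff.mp hwQ
  refine ⟨?_, ?_, ?_⟩
  · intro x hx
    rw [mem_cj] at hx
    exact (hwE' x).mpr (hB.1 hx)
  · intro x hx
    rw [mem_cj]
    apply hB.2.1
    refine mem_inf.mpr ⟨(hwE' x).mp hx.1, ?_⟩
    rw [mem_centralizer_iff]
    intro g hg
    have h1 := mem_centralizer_iff.mp hx.2 (w * g * w⁻¹) ((hwQ' g).mp hg)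
    calc g * (w⁻¹ * x * w) = w⁻¹ * ((w * g * w⁻¹) * x) * w := by group
      _ = w⁻¹ * (x * (w * g * w⁻¹)) * w := by rw [h1]
      _ = w⁻¹ * x * w * g := by group
  · intro x hx hxB y hy
    rw [mem_cj] at hxB
    obtain ⟨i, hi⟩ := hB.2.2 (w⁻¹ * x * w) ((hwE' x).mp hx) hxB (w⁻¹ * y * w) ((hwE' y).mp hy)
    refine ⟨i, ?_⟩
    rw [mem_cj]
    have : w⁻¹ * (y * x ^ i) * w = w⁻¹ * y * w * (w⁻¹ * x * w) ^ i := by
      have h2 : (w⁻¹ * x * w) ^ i = w⁻¹ * x ^ i * w := by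
        have := conj_pow (a := w⁻¹) (b := x) (i := i)
        rw [inv_inv] at this
        exact this
      rw [h2]
      group
    rw [this]
    exact hi

end Cfsg.Agent.Helper3.HHX
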