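import Mathlib
import Cfsg.Agent.Lib.Helper3.HH.Step3A

/-!
# Case 1 of `step3`: a `p`-element acts trivially on a quotient of order `p` (helper3, S3786)
-/

set_option autoImplicit false

namespace Cfsg.Agent.Helper3.HHX

open Subgroup

variable {Γ : Type*} [Group Γ]

/-- A `p`-element normalising `E` and the "hyperplane" `B` acts trivially on `E / B`. -/
theorem comm_mem_of_normalizes {p : ℕ} [hp : Fact p.Prime] {E B : Subgroup Γ} (hBE : B ≤ E)
    (hBn : ∀ x ∈ E, ∀ y ∈ B, x * y * x⁻¹ ∈ B) (hexp : ∀ e ∈ E, e ^ p ∈ B)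
    (hcyc : ∀ x ∈ E, x ∉ B → ∀ y ∈ E, ∃ i : ℕ, y * x ^ i ∈ B)
    (a : Γ) (haE : a ∈ normalizer (E : Set Γ)) (haB : a ∈ normalizer (B : Set Γ))
    (hap : a ^ p = 1) : ∀ e ∈ E, a * e * a⁻¹ * e⁻¹ ∈ B := by
  have haE' : ∀ x, x ∈ E ↔ a * x * a⁻¹ ∈ E := mem_normalizer_iff.mp haE
  have haB' : ∀ x, x ∈ B ↔ a * x * a⁻¹ ∈ B := mem_normalizer_iff.mp haB
  by_cases hEB : E ≤ B
  · intro e he
    exact hEB (E.mul_mem ((haE' e).mp he) (E.inv_mem he))
  obtain ⟨x, hxE, hxB⟩ := SetLike.not_le_iff_exists.mp hEB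
  haveI hNn : (B.subgroupOf E).Normal := by
    constructor
    intro n hn g
    rw [mem_subgroupOf] at hn ⊢
    exact hBn g g.2 n hn
  -- the induced endomorphism of the quotient
  let f : ↥E →* ↥E ⧸ B.subgroupOf E := MonoidHom.mk'
    (fun e => QuotientGroup.mk' (B.subgroupOf E) ⟨a * e * a⁻¹, (haE' e).mp e.2⟩) (by
      intro e₁ e₂
      rw [← map_mul]
      congr 1
      apply Subtype.ext
      show a * (e₁ * e₂ : Γ) * a⁻¹ = (a * e₁ * a⁻¹) * (a * e₂ * a⁻¹)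
      group)
  have hf : ∀ e : ↥E, f e = QuotientGroup.mk' (B.subgroupOf E)
      ⟨a * e * a⁻¹, (haE' e).mp e.2⟩ := fun e => rfl
  have hker : B.subgroupOf E ≤ f.ker := by
    intro n hn
    rw [MonoidHom.mem_ker, hf, QuotientGroup.mk'_apply, QuotientGroup.eq_one_iff,
      mem_subgroupOf]
    rw [mem_subgroupOf] at hn
    exact (haB' n).mp hn
  let α : ↥E ⧸ B.subgroupOf E →* ↥E ⧸ B.subgroupOf E := QuotientGroup.lift (B.subgroupOf E) f hker
  have hα : ∀ e : ↥E, α (QuotientGroup.mk' (B.subgroupOf E) e) = f e := fun e => rfl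
  set xb : ↥E ⧸ B.subgroupOf E := QuotientGroup.mk' (B.subgroupOf E) ⟨x, hxE⟩ with hxb
  have hxb1 : xb ≠ 1 := by
    intro h
    rw [hxb, QuotientGroup.mk'_apply, QuotientGroup.eq_one_iff, mem_subgroupOf] at h
    exact hxB h
  have hxbp : xb ^ p = 1 := by
    rw [hxb, ← map_pow, QuotientGroup.mk'_apply, QuotientGroup.eq_one_iff, mem_subgroupOf]
    exact hexp x hxE
  have hord : orderOf xb = p := orderOf_eq_prime hxbp hxb1
  have hgen : ∀ y : ↥E ⧸ B.subgroupOf E, ∃ i : ℕ, y * xb ^ i = 1 := by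
    intro y
    obtain ⟨y, rfl⟩ := QuotientGroup.mk'_surjective (B.subgroupOf E) y
    obtain ⟨i, hi⟩ := hcyc x hxE hxB y y.2
    refine ⟨i, ?_⟩
    rw [hxb, ← map_pow, ← map_mul, QuotientGroup.mk'_apply, QuotientGroup.eq_one_iff,
      mem_subgroupOf]
    exact hi
  have hinv : ∀ i : ℕ, (xb ^ i)⁻¹ = xb ^ ((p - 1) * i) := by
    intro i
    have h1 : xb⁻¹ = xb ^ (p - 1) := by
      apply inv_eq_of_mul_eq_one_right
      rw [← pow_succ', Nat.sub_add_cancel hp.out.one_le, hxbp]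
    rw [← inv_pow, h1, ← pow_mul]
  -- `α` multiplies `xb` by some `j`
  obtain ⟨j, hj⟩ : ∃ j : ℕ, α xb = xb ^ j := by
    obtain ⟨i, hi⟩ := hgen (α xb)
    refine ⟨(p - 1) * i, ?_⟩
    rw [← hinv]
    exact eq_inv_of_mul_eq_one_left hi
  have hiter : ∀ m : ℕ, α^[m] xb = xb ^ (j ^ m) := by
    intro m
    induction m with
    | zero => simp
    | succ m ih =>
      rw [Function.iterate_succ_apply', ih, map_pow, hj, ← pow_mul, pow_succ']
  have hiter2 : ∀ (m : ℕ) (e : ↥E), ∃ h : a ^ m * e * (a ^ m)⁻¹ ∈ E,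
      α^[m] (QuotientGroup.mk' (B.subgroupOf E) e) = QuotientGroup.mk' (B.subgroupOf E) ⟨_, h⟩ := by
    intro m
    induction m with
    | zero =>
      intro e
      refine ⟨by simp, ?_⟩
      simp
    | succ m ih =>
      intro e
      obtain ⟨h1, h2⟩ := ih e
      have h3 : a ^ (m + 1) * e * (a ^ (m + 1))⁻¹ = a * (a ^ m * e * (a ^ m)⁻¹) * a⁻¹ := by
        rw [pow_succ']; group
      refine ⟨by rw [h3]; exact (haE' _).mp h1, ?_⟩
      rw [Function.iterate_succ_apply', h2, hα, hf]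
      congr 1
      apply Subtype.ext
      exact h3.symm
  have hfix : α^[p] xb = xb := by
    obtain ⟨h1, h2⟩ := hiter2 p ⟨x, hxE⟩
    rw [hxb, h2]
    congr 1
    apply Subtype.ext
    show a ^ p * x * (a ^ p)⁻¹ = x
    rw [hap]
    group
  have hj1 : j ≡ 1 [MOD p] := by
    have h1 : xb ^ (j ^ p) = xb ^ 1 := by rw [← hiter, hfix, pow_one]
    have h2 : j ^ p ≡ 1 [MOD p] := by
      have h2' := pow_eq_pow_iff_modEq.mp h1
      rw [hord] at h2'
      exact h2'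
    have h3 : ((j : ZMod p)) ^ p = 1 := by
      have := (ZMod.natCast_eq_natCast_iff (j ^ p) 1 p).mpr h2
      simpa using this
    rw [ZMod.pow_card] at h3
    apply (ZMod.natCast_eq_natCast_iff j 1 p).mp
    simpa using h3
  have hαx : α xb = xb := by
    rw [hj]
    have : xb ^ j = xb ^ 1 := by
      apply pow_eq_pow_iff_modEq.mpr
      rw [hord]
      exact hj1
    rw [this, pow_one]
  intro e he
  obtain ⟨i, hi⟩ := hgen (QuotientGroup.mk' (B.subgroupOf E) ⟨e, he⟩)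
  have he1 : QuotientGroup.mk' (B.subgroupOf E) ⟨e, he⟩ = (xb ^ i)⁻¹ := eq_inv_of_mul_eq_one_left hi
  have he2 : α (QuotientGroup.mk' (B.subgroupOf E) ⟨e, he⟩) =
      QuotientGroup.mk' (B.subgroupOf E) ⟨e, he⟩ := by
    rw [he1, map_inv, map_pow, hαx]
  rw [hα, hf] at he2
  have he3 : QuotientGroup.mk' (B.subgroupOf E)
      (⟨a * e * a⁻¹, (haE' e).mp he⟩ * (⟨e, he⟩ : ↥E)⁻¹) = 1 := by
    rw [map_mul, map_inv, he2, mul_inv_cancel]
  rw [QuotientGroup.mk'_apply, QuotientGroup.eq_one_iff, mem_subgroupOf] at he3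
  exact he3

end Cfsg.Agent.Helper3.HHX
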