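import Mathlib
import Cfsg.Agent.Lib.Helper3.HH.Defs
import Cfsg.Agent.Lib.Helper3.HH.Step3A
import Cfsg.Agent.Lib.Helper3.HH.Step3B
import Cfsg.Agent.Lib.Helper25.HHXGEN

/-!
# `step3`: the socle of a tight element centralises `E` modulo `C(Q)` (helper3, S3786)
-/

set_option autoImplicit false

namespace Cfsg.Agent.Helper3.HHX

open Subgroup

variable {Γ : Type*} [Group Γ]

/-- Case 2 of `step3`: if `a` does not normalise the admissible subgroup `B` then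
`C_Q(B) = C_Q(E)`. -/
theorem fix_of_not_normalizes {p q : ℕ} [hp : Fact p.Prime] [hq : Fact q.Prime] (hpq : p ≠ q)
    (Q E : Subgroup Γ) (hQ : IsPGroup q Q)
    (hEQ : E ≤ normalizer (Q : Set Γ))
    (hEab : ∀ x ∈ E, ∀ y ∈ E, x * y * x⁻¹ * y⁻¹ ∈ centralizer (Q : Set Γ))
    (hexp : ∀ e ∈ E, e ^ p ∈ centralizer (Q : Set Γ))
    (hED : ∀ e ∈ E, ∀ g ∈ Q, ∀ h ∈ Q, e * (g * h * g⁻¹ * h⁻¹) = (g * h * g⁻¹ * h⁻¹) * e)
    (z : Γ) (hzQ : z ∈ normalizer (Q : Set Γ)) (hzE : z ∈ normalizer (E : Set Γ))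
    (k : ℕ) (hk : 1 ≤ k) (hzk : z ^ p ^ k = 1)
    (hbb : ∀ A : Subgroup Γ, A ≤ Q → (∀ x ∈ A, ∀ y ∈ A, x * y = y * x) →
      (∀ x ∈ A, z * x * z⁻¹ ∈ A) → ∀ x ∈ A, z ^ p ^ (k - 1) * x = x * z ^ p ^ (k - 1))
    (B : Subgroup Γ) (hB : Adm Q E B) (haB : z ^ p ^ (k - 1) ∉ normalizer (B : Set Γ))
    (r : Γ) (hrQ : r ∈ Q) (hrB : ∀ β ∈ B, β * r = r * β) (e : Γ) (he : e ∈ E) :
    e * r * e⁻¹ = r := by
  classical
  set a := z ^ p ^ (k - 1) with ha
  have haQ : a ∈ normalizer (Q : Set Γ) := pow_mem hzQ _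
  have haE : a ∈ normalizer (E : Set Γ) := pow_mem hzE _
  have hnQ : ∀ w ∈ normalizer (Q : Set Γ), ∀ x ∈ Q, w * x * w⁻¹ ∈ Q :=
    fun w hw x hx => (mem_normalizer_iff.mp hw x).mp hx
  obtain ⟨g, hg⟩ : ∃ g : Γ, g = r⁻¹ * (e * r * e⁻¹) := ⟨_, rfl⟩
  have hgQ : g ∈ Q := by
    rw [hg]
    exact Q.mul_mem (Q.inv_mem hrQ) (hnQ e (hEQ he) r hrQ)
  -- `g` centralises `B`
  have hgB : ∀ β ∈ B, β * g = g * β := by
    intro β hβ
    have h1 : e⁻¹ * β * e ∈ B := by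
      have := hB.conj_mem hEab (E.inv_mem he) hβ
      rwa [inv_inv] at this
    have h2 := hrB _ h1
    have h3 := hrB β hβ
    have h3' : β * r⁻¹ = r⁻¹ * β := by
      calc β * r⁻¹ = r⁻¹ * (r * β) * r⁻¹ := by group
        _ = r⁻¹ * (β * r) * r⁻¹ := by rw [h3]
        _ = r⁻¹ * β := by group
    rw [hg]
    calc β * (r⁻¹ * (e * r * e⁻¹)) = (β * r⁻¹) * e * ((e⁻¹ * β * e)⁻¹ * (e⁻¹ * β * e) * r) * e⁻¹ := by
          group
      _ = (r⁻¹ * β) * e * ((e⁻¹ * β * e)⁻¹ * (r * (e⁻¹ * β * e))) * e⁻¹ := by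
          rw [h3', mul_assoc ((e⁻¹ * β * e)⁻¹), h2]
      _ = r⁻¹ * (e * r * e⁻¹) * β := by group
  -- the stabiliser of `B` in `⟨z⟩` is trivial
  have hstab : ∀ i : ℕ, z ^ i ∈ normalizer (B : Set Γ) → z ^ i = 1 := by
    intro i hi
    by_contra hne
    exact haB (socle_mem_of_pow_mem z k hk hzk (normalizer (B : Set Γ)) i hi hne)
  -- `g` commutes with its `z`-conjugates
  have hcomm : ∀ i : ℕ, g * (z ^ i * g * (z ^ i)⁻¹) = (z ^ i * g * (z ^ i)⁻¹) * g := by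
    intro i
    by_cases hi : z ^ i ∈ normalizer (B : Set Γ)
    · rw [hstab i hi]
      group
    · have hB' : Adm Q E (cj (z ^ i) B) := hB.cj (pow_mem hzQ i) (pow_mem hzE i)
      have hne : cj (z ^ i) B ≠ B := fun h => hi (mem_normalizer_of_cj_eq h)
      obtain ⟨β', hβ', β, hβ, he'⟩ := hB.decomp hB' hne e he
      have hg' : g = r⁻¹ * (β' * r * β'⁻¹) := by
        have h1 : β * r * β⁻¹ = r := by
          rw [hrB β hβ]
          group
        rw [hg, he']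
        calc r⁻¹ * (β' * β * r * (β' * β)⁻¹) = r⁻¹ * (β' * (β * r * β⁻¹) * β'⁻¹) := by group
          _ = r⁻¹ * (β' * r * β'⁻¹) := by rw [h1]
      set u := z ^ i * g * (z ^ i)⁻¹ with hu
      have huQ : u ∈ Q := hnQ _ (pow_mem hzQ i) g hgQ
      have hufix : β' * u * β'⁻¹ = u := by
        have h1 := hgB _ (mem_cj.mp hβ')
        have h2 : β' * u = u * β' := by
          rw [hu]
          calc β' * (z ^ i * g * (z ^ i)⁻¹)
              = z ^ i * (((z ^ i)⁻¹ * β' * z ^ i) * g) * (z ^ i)⁻¹ := by group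
            _ = z ^ i * (g * ((z ^ i)⁻¹ * β' * z ^ i)) * (z ^ i)⁻¹ := by rw [h1]
            _ = z ^ i * g * (z ^ i)⁻¹ * β' := by group
        rw [h2]
        group
      have hc := hED β' (hB'.1 hβ') u huQ r hrQ
      have h3 := comm_of_fix hufix hc
      rw [← hg'] at h3
      exact h3.symm
  -- the abelian `z`-invariant subgroup generated by the conjugates of `g`
  set A : Subgroup Γ := Subgroup.closure (Set.range fun i : ℕ => z ^ i * g * (z ^ i)⁻¹) with hA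
  have hAQ : A ≤ Q := by
    rw [hA, closure_le]
    rintro _ ⟨i, rfl⟩
    exact hnQ _ (pow_mem hzQ i) g hgQ
  have hgen : ∀ i d : ℕ, (z ^ i * g * (z ^ i)⁻¹) * (z ^ (i + d) * g * (z ^ (i + d))⁻¹) =
      (z ^ (i + d) * g * (z ^ (i + d))⁻¹) * (z ^ i * g * (z ^ i)⁻¹) := by
    intro i d
    have e1 : z ^ (i + d) * g * (z ^ (i + d))⁻¹ = z ^ i * (z ^ d * g * (z ^ d)⁻¹) * (z ^ i)⁻¹ := by
      rw [pow_add]; group
    rw [e1]
    calc z ^ i * g * (z ^ i)⁻¹ * (z ^ i * (z ^ d * g * (z ^ d)⁻¹) * (z ^ i)⁻¹)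
        = z ^ i * (g * (z ^ d * g * (z ^ d)⁻¹)) * (z ^ i)⁻¹ := by group
      _ = z ^ i * ((z ^ d * g * (z ^ d)⁻¹) * g) * (z ^ i)⁻¹ := by rw [hcomm d]
      _ = z ^ i * (z ^ d * g * (z ^ d)⁻¹) * (z ^ i)⁻¹ * (z ^ i * g * (z ^ i)⁻¹) := by group
  have hAab : ∀ x ∈ A, ∀ y ∈ A, x * y = y * x := by
    have hS : ∀ x ∈ (Set.range fun i : ℕ => z ^ i * g * (z ^ i)⁻¹),
        ∀ y ∈ (Set.range fun i : ℕ => z ^ i * g * (z ^ i)⁻¹), x * y = y * x := by
      rintro _ ⟨i, rfl⟩ _ ⟨j, rfl⟩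
      rcases le_total i j with hij | hij
      · obtain ⟨d, rfl⟩ := Nat.exists_eq_add_of_le hij
        exact hgen i d
      · obtain ⟨d, rfl⟩ := Nat.exists_eq_add_of_le hij
        exact (hgen j d).symm
    intro x hx y hy
    have := (Subgroup.isMulCommutative_closure hS).is_comm.comm ⟨x, hx⟩ ⟨y, hy⟩
    exact congrArg Subtype.val this
  have hAz : ∀ x ∈ A, z * x * z⁻¹ ∈ A := by
    have h1 : A ≤ A.comap (MulAut.conj z).toMonoidHom := by
      rw [hA, closure_le]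
      rintro _ ⟨i, rfl⟩
      show z * (z ^ i * g * (z ^ i)⁻¹) * z⁻¹ ∈ Subgroup.closure _
      apply Subgroup.subset_closure
      refine ⟨i + 1, ?_⟩
      show z ^ (i + 1) * g * (z ^ (i + 1))⁻¹ = z * (z ^ i * g * (z ^ i)⁻¹) * z⁻¹
      rw [pow_succ']
      group
    intro x hx
    exact h1 hx
  have hgA : g ∈ A := by
    apply Subgroup.subset_closure
    exact ⟨0, by simp⟩
  have hag : a * g = g * a := hbb A hAQ hAab hAz g hgA
  -- `g` centralises `a B a⁻¹`, hence `E`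
  have hgaB : ∀ β ∈ cj a B, β * g = g * β := by
    intro β hβ
    have h1 := hgB _ (mem_cj.mp hβ)
    have h2 : a⁻¹ * g = g * a⁻¹ := by
      calc a⁻¹ * g = a⁻¹ * (g * a) * a⁻¹ := by group
        _ = a⁻¹ * (a * g) * a⁻¹ := by rw [hag]
        _ = g * a⁻¹ := by group
    calc β * g = a * (a⁻¹ * β * a) * (a⁻¹ * g) := by group
      _ = a * (a⁻¹ * β * a) * (g * a⁻¹) := by rw [h2]
      _ = a * ((a⁻¹ * β * a) * g) * a⁻¹ := by group
      _ = a * (g * (a⁻¹ * β * a)) * a⁻¹ := by rw [h1]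
      _ = (a * g) * a⁻¹ * β := by group
      _ = (g * a) * a⁻¹ * β := by rw [hag]
      _ = g * β := by group
  have hgE : ∀ e' ∈ E, e' * g = g * e' := by
    intro e' he'
    have hB' : Adm Q E (cj a B) := hB.cj haQ haE
    have hne : cj a B ≠ B := fun h => haB (mem_normalizer_of_cj_eq h)
    obtain ⟨β', hβ', β, hβ, rfl⟩ := hB.decomp hB' hne e' he'
    calc β' * β * g = β' * (β * g) := by group
      _ = β' * (g * β) := by rw [hgB β hβ]
      _ = (β' * g) * β := by group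
      _ = (g * β') * β := by rw [hgaB β' hβ']
      _ = g * (β' * β) := by group
  -- powers of `e`
  have herg : e * r * e⁻¹ = r * g := by
    rw [hg]; group
  have hegj : ∀ j : ℕ, e * g ^ j * e⁻¹ = g ^ j := by
    intro j
    have h1 : Commute e g := hgE e he
    have h2 : e * g ^ j = g ^ j * e := (h1.pow_right j).eq
    rw [h2]; group
  have hpow : ∀ j : ℕ, e ^ j * r * (e ^ j)⁻¹ = r * g ^ j := by
    intro j
    induction j with
    | zero => simp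
    | succ j ih =>
      calc e ^ (j + 1) * r * (e ^ (j + 1))⁻¹ = e * (e ^ j * r * (e ^ j)⁻¹) * e⁻¹ := by
            rw [pow_succ']; group
        _ = e * (r * g ^ j) * e⁻¹ := by rw [ih]
        _ = (e * r * e⁻¹) * (e * g ^ j * e⁻¹) := by group
        _ = r * g * g ^ j := by rw [herg, hegj]
        _ = r * g ^ (j + 1) := by rw [pow_succ']; group
  have hgp : g ^ p = 1 := by
    have h1 := hpow p
    have h2 := mem_centralizer_iff.mp (hexp e he) r hrQ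
    -- h2 : r * e ^ p = e ^ p * r
    have h3 : e ^ p * r * (e ^ p)⁻¹ = r := by
      rw [← h2]; group
    rw [h3] at h1
    have : r * 1 = r * g ^ p := by rw [mul_one]; exact h1
    exact (mul_left_cancel this).symm
  have hg1 : g = 1 := by
    obtain ⟨m, hm⟩ := hQ ⟨g, hgQ⟩
    have hm' : g ^ q ^ m = 1 := by
      have := congrArg Subtype.val hm
      simpa using this
    have hcop : Nat.gcd p (q ^ m) = 1 :=
      Nat.Coprime.pow_right m ((Nat.coprime_primes hp.out hq.out).mpr hpq)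
    have := pow_gcd_eq_one.mpr ⟨hgp, hm'⟩
    rw [hcop, pow_one] at this
    exact this
  rw [herg, hg1, mul_one]

/-- PIECE X-STEP3: the socle `a = z ^ p ^ (k-1)` of a tight element `z` centralises, modulo
`C(Q)`, every `z`-invariant subgroup `E` that acts on the class-`2` `q`-group `Q` as an
elementary abelian `p`-group and centralises the commutators of `Q`. -/
theorem step3 [Finite Γ] {p q : ℕ} [Fact p.Prime] [Fact q.Prime] (hpq : p ≠ q)
    (Q E : Subgroup Γ) (hQ : IsPGroup q Q)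
    (hcl : ∀ g ∈ Q, ∀ h ∈ Q, ∀ k ∈ Q, (g * h * g⁻¹ * h⁻¹) * k = k * (g * h * g⁻¹ * h⁻¹))
    (hEQ : E ≤ normalizer (Q : Set Γ))
    (hEab : ∀ x ∈ E, ∀ y ∈ E, x * y * x⁻¹ * y⁻¹ ∈ centralizer (Q : Set Γ))
    (hexp : ∀ e ∈ E, e ^ p ∈ centralizer (Q : Set Γ))
    (hED : ∀ e ∈ E, ∀ g ∈ Q, ∀ h ∈ Q, e * (g * h * g⁻¹ * h⁻¹) = (g * h * g⁻¹ * h⁻¹) * e)
    (z : Γ) (hzQ : z ∈ normalizer (Q : Set Γ)) (hzE : z ∈ normalizer (E : Set Γ))
    (k : ℕ) (hk : 1 ≤ k) (hzk : z ^ p ^ k = 1)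
    (hbb : ∀ A : Subgroup Γ, A ≤ Q → (∀ x ∈ A, ∀ y ∈ A, x * y = y * x) →
      (∀ x ∈ A, z * x * z⁻¹ ∈ A) → ∀ x ∈ A, z ^ p ^ (k - 1) * x = x * z ^ p ^ (k - 1)) :
    ∀ e ∈ E, z ^ p ^ (k - 1) * e * (z ^ p ^ (k - 1))⁻¹ * e⁻¹ ∈ centralizer (Q : Set Γ) := by
  classical
  have hpp : p.Prime := Fact.out
  have hqp : q.Prime := Fact.out
  set a := z ^ p ^ (k - 1) with ha
  have hap : a ^ p = 1 := by
    rw [ha, ← pow_mul, ← pow_succ, Nat.sub_add_cancel hk, hzk]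
  have haE : a ∈ normalizer (E : Set Γ) := pow_mem hzE _
  have hcop : (Nat.card Q).Coprime p := by
    obtain ⟨m, hm⟩ := IsPGroup.iff_card.mp hQ
    rw [hm]
    exact Nat.Coprime.pow_left m ((Nat.coprime_primes hqp hpp).mpr (Ne.symm hpq))
  have hcE : ∀ e ∈ E, a * e * a⁻¹ * e⁻¹ ∈ E := by
    intro e he
    exact E.mul_mem ((mem_normalizer_iff.mp haE e).mp he) (E.inv_mem he)
  set X : Subgroup Γ := Q ⊓ centralizer {c | ∃ e ∈ E, c = a * e * a⁻¹ * e⁻¹} with hX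
  have hmemX : ∀ r ∈ Q, (∀ e ∈ E, (a * e * a⁻¹ * e⁻¹) * r = r * (a * e * a⁻¹ * e⁻¹)) → r ∈ X := by
    intro r hr h
    refine mem_inf.mpr ⟨hr, ?_⟩
    rw [mem_centralizer_iff]
    rintro c ⟨e, he, rfl⟩
    exact h e he
  suffices h : Q ≤ X by
    intro e he
    rw [mem_centralizer_iff]
    intro g hg
    have h1 := mem_centralizer_iff.mp (mem_inf.mp (h hg)).2 _ ⟨e, he, rfl⟩
    exact h1.symm
  apply gen_hyper Q E hEQ hcop hEab hexp X
  intro B hBE hKB hcyc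
  have hB : Adm Q E B := ⟨hBE, hKB, hcyc⟩
  by_cases haB : a ∈ normalizer (B : Set Γ)
  · have h1 := comm_mem_of_normalizes hBE (fun x hx y hy => hB.conj_mem hEab hx hy)
      (fun e he => hKB (mem_inf.mpr ⟨E.pow_mem he p, hexp e he⟩)) hcyc a haE haB hap
    intro r hr
    apply hmemX r (mem_inf.mp hr).1
    intro e he
    exact mem_centralizer_iff.mp (mem_inf.mp hr).2 _ (h1 e he)
  · intro r hr
    apply hmemX r (mem_inf.mp hr).1
    intro e he
    have hrB : ∀ β ∈ B, β * r = r * β := fun β hβ => mem_centralizer_iff.mp (mem_inf.mp hr).2 β hβ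
    have h1 := fix_of_not_normalizes hpq Q E hQ hEQ hEab hexp hED z hzQ hzE k hk hzk hbb B hB haB
      r (mem_inf.mp hr).1 hrB _ (hcE e he)
    calc (a * e * a⁻¹ * e⁻¹) * r = ((a * e * a⁻¹ * e⁻¹) * r * (a * e * a⁻¹ * e⁻¹)⁻¹) *
          (a * e * a⁻¹ * e⁻¹) := by group
      _ = r * (a * e * a⁻¹ * e⁻¹) := by rw [h1]

end Cfsg.Agent.Helper3.HHX
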