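import Mathlib
import Cfsg.Agent.Lib.Helper3.HH.Defs
import Cfsg.Agent.Lib.Helper3.HH.CoreA
import Cfsg.Agent.Lib.Helper3.HH.Step3
import Cfsg.Agent.Lib.Helper5.BGFwK

/-!
# Socles of tight elements commute modulo `C(Q)` (helper3, S3786)
-/

set_option autoImplicit false

namespace Cfsg.Agent.Helper3.HHX

open Subgroup
open scoped commutatorElement

variable {Γ : Type*} [Group Γ]

theorem core_aux [Finite Γ] {p q : ℕ} [hp : Fact p.Prime] [hq : Fact q.Prime] (hpq : p ≠ q)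
    (T : Γ → ℕ → Prop) :
    ∀ (n : ℕ) (S : Subgroup Γ), Nat.card S = n → IsPGroup p S →
    ∀ (m : ℕ) (Q : Subgroup Γ), Nat.card Q = m → IsPGroup q Q → S ≤ normalizer (Q : Set Γ) →
      TightSys p Q S T → ∀ z₁ ∈ S, ∀ z₂ ∈ S, ∀ k₁ k₂ : ℕ, T z₁ k₁ → T z₂ k₂ →
      z₁ ^ p ^ (k₁ - 1) * z₂ ^ p ^ (k₂ - 1) * (z₁ ^ p ^ (k₁ - 1))⁻¹ * (z₂ ^ p ^ (k₂ - 1))⁻¹ ∈
        centralizer (Q : Set Γ) := by
  intro n
  induction n using Nat.strong_induction_on with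
  | _ n ihS =>
  intro S hn hS m
  induction m using Nat.strong_induction_on with
  | _ m ihQ =>
  intro Q hm hQ hSQ hT z₁ hz₁ z₂ hz₂ k₁ k₂ h₁ h₂
  classical
  obtain ⟨a, ha⟩ : ∃ a : Γ, a = z₁ ^ p ^ (k₁ - 1) := ⟨_, rfl⟩
  obtain ⟨b, hb⟩ : ∃ b : Γ, b = z₂ ^ p ^ (k₂ - 1) := ⟨_, rfl⟩
  rw [← ha, ← hb]
  have haS : a ∈ S := by rw [ha]; exact pow_mem hz₁ _
  have hbS : b ∈ S := by rw [hb]; exact pow_mem hz₂ _
  by_cases hcyc : S ≤ zpowers z₂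
  · -- cyclic case
    obtain ⟨i, hi⟩ := mem_zpowers_iff.mp (hcyc hz₁)
    have hab : a * b = b * a := by
      rw [ha, hb, ← hi]
      have h1 : Commute (z₂ ^ i) z₂ := (Commute.refl z₂).zpow_left i
      exact ((h1.pow_left _).pow_right _).eq
    have h2 : a * b * a⁻¹ * b⁻¹ = 1 := by rw [hab]; group
    rw [h2]
    exact one_mem _
  obtain ⟨S', hS'S, hS'card, hz₂S', hS'n⟩ := exists_normal_proper S hS z₂ hz₂ hcyc
  have hS'p : IsPGroup p S' := hS.to_le hS'S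
  have hT' : TightSys p Q S' T := hT.mono le_rfl hS'S
  have ih1 := ihS (Nat.card S') (by rw [← hn]; exact hS'card) S' rfl hS'p (Nat.card Q) Q rfl hQ
    (hS'S.trans hSQ) hT'
  have hconjpow : ∀ s : Γ, (s * z₂ * s⁻¹) ^ p ^ (k₂ - 1) = s * b * s⁻¹ := by
    intro s
    rw [hb]
    exact conj_pow
  have hconjpow₁ : ∀ s : Γ, (s * z₁ * s⁻¹) ^ p ^ (k₁ - 1) = s * a * s⁻¹ := by
    intro s
    rw [ha]
    exact conj_pow
  have hbp : b ^ p = 1 := by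
    rw [hb, ← pow_mul, ← pow_succ, Nat.sub_add_cancel (hT.pos z₂ k₂ h₂), hT.pow z₂ k₂ h₂]
  -- the group `E` generated by the conjugates of `b`
  obtain ⟨Es, hEs⟩ : ∃ Es : Set Γ, Es = {x | ∃ s ∈ S, x = s * b * s⁻¹} := ⟨_, rfl⟩
  obtain ⟨E, hE⟩ : ∃ E : Subgroup Γ, E = Subgroup.closure Es := ⟨_, rfl⟩
  have hEsS' : Es ⊆ S' := by
    rw [hEs]
    rintro _ ⟨s, hs, rfl⟩
    rw [← hconjpow]
    exact pow_mem (hS'n s hs z₂ hz₂S') _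
  have hES' : E ≤ S' := by rw [hE]; exact (Subgroup.closure_le S').mpr hEsS'
  have hES : E ≤ S := hES'.trans hS'S
  have hEQ : E ≤ normalizer (Q : Set Γ) := hES.trans hSQ
  have hEscomm : ∀ x ∈ Es, ∀ y ∈ Es, x * y * x⁻¹ * y⁻¹ ∈ centralizer (Q : Set Γ) := by
    rw [hEs]
    rintro _ ⟨s, hs, rfl⟩ _ ⟨t, ht, rfl⟩
    have := ih1 (s * z₂ * s⁻¹) (hS'n s hs z₂ hz₂S') (t * z₂ * t⁻¹) (hS'n t ht z₂ hz₂S') k₂ k₂
      (hT.conj z₂ k₂ h₂ s hs) (hT.conj z₂ k₂ h₂ t ht)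
    rwa [hconjpow, hconjpow] at this
  have hEspow : ∀ x ∈ Es, x ^ p ∈ centralizer (Q : Set Γ) := by
    rw [hEs]
    rintro _ ⟨s, hs, rfl⟩
    rw [conj_pow, hbp]
    have : s * 1 * s⁻¹ = 1 := by group
    rw [this]
    exact one_mem _
  have hEsN : Es ⊆ (normalizer (Q : Set Γ) : Set Γ) := fun x hx => hSQ (hS'S (hEsS' hx))
  have hEab : ∀ x ∈ E, ∀ y ∈ E, x * y * x⁻¹ * y⁻¹ ∈ centralizer (Q : Set Γ) := by
    rw [hE]
    exact comm_mod_of_closure Q Es hEsN hEscomm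
  have hexp : ∀ e ∈ E, e ^ p ∈ centralizer (Q : Set Γ) := by
    rw [hE]
    exact pow_mod_of_closure Q Es hEsN p hEscomm hEspow
  have hSE : ∀ s ∈ S, ∀ x ∈ E, s * x * s⁻¹ ∈ E := by
    intro s hs
    have h1 : E ≤ E.comap (MulAut.conj s).toMonoidHom := by
      rw [hE, closure_le, hEs]
      rintro _ ⟨t, ht, rfl⟩
      show s * (t * b * t⁻¹) * s⁻¹ ∈ Subgroup.closure _
      apply Subgroup.subset_closure
      exact ⟨s * t, S.mul_mem hs ht, by group⟩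
    intro x hx
    exact h1 hx
  have hbE : b ∈ E := by
    rw [hE]
    apply Subgroup.subset_closure
    rw [hEs]
    exact ⟨1, S.one_mem, by group⟩
  obtain ⟨c, hc⟩ : ∃ c : Γ, c = a * b * a⁻¹ * b⁻¹ := ⟨_, rfl⟩
  rw [← hc]
  have hcE : c ∈ E := by
    rw [hc]
    exact E.mul_mem (hSE a haS b hbE) (E.inv_mem hbE)
  -- the group `C` generated by the conjugates of `c`
  obtain ⟨Cs, hCs⟩ : ∃ Cs : Set Γ, Cs = {x | ∃ s ∈ S, x = s * c * s⁻¹} := ⟨_, rfl⟩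
  obtain ⟨C, hC⟩ : ∃ C : Subgroup Γ, C = Subgroup.closure Cs := ⟨_, rfl⟩
  have hCE : C ≤ E := by
    rw [hC, closure_le, hCs]
    rintro _ ⟨s, hs, rfl⟩
    exact hSE s hs c hcE
  have hcC : c ∈ C := by
    rw [hC]
    apply Subgroup.subset_closure
    rw [hCs]
    exact ⟨1, S.one_mem, by group⟩
  have hSC : S ≤ normalizer (C : Set Γ) := by
    apply Cfsg.Agent.Helper1.le_normalizer_of_forall_conj_mem
    intro s hs
    have h1 : C ≤ C.comap (MulAut.conj s).toMonoidHom := by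
      rw [hC, closure_le, hCs]
      rintro _ ⟨t, ht, rfl⟩
      show s * (t * c * t⁻¹) * s⁻¹ ∈ Subgroup.closure _
      apply Subgroup.subset_closure
      exact ⟨s * t, S.mul_mem hs ht, by group⟩
    intro x hx
    exact h1 hx
  have hCQ : C ≤ normalizer (Q : Set Γ) := hCE.trans hEQ
  -- `C` centralises every proper `S`-invariant subgroup of `Q`
  have hred : ∀ Q' : Subgroup Γ, Q' ≤ Q → Q' ≠ Q → S ≤ normalizer (Q' : Set Γ) →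
      C ≤ centralizer (Q' : Set Γ) := by
    intro Q' hQ'Q hne hSQ'
    have hlt : Nat.card Q' < m := by
      rw [← hm]
      exact lt_of_le_of_ne (card_le_of_le hQ'Q) (fun h => hne (eq_of_le_of_card_ge hQ'Q h.ge))
    have ih2 := ihQ (Nat.card Q') hlt Q' rfl (hQ.to_le hQ'Q) hSQ' (hT.mono hQ'Q le_rfl)
    rw [hC, closure_le, hCs]
    rintro _ ⟨s, hs, rfl⟩
    have hs₁ : s * z₁ * s⁻¹ ∈ S := S.mul_mem (S.mul_mem hs hz₁) (S.inv_mem hs)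
    have hs₂ : s * z₂ * s⁻¹ ∈ S := S.mul_mem (S.mul_mem hs hz₂) (S.inv_mem hs)
    have h3 := ih2 (s * z₁ * s⁻¹) hs₁ (s * z₂ * s⁻¹) hs₂ k₁ k₂ (hT.conj z₁ k₁ h₁ s hs)
      (hT.conj z₂ k₂ h₂ s hs)
    rw [hconjpow, hconjpow₁] at h3
    have e : s * a * s⁻¹ * (s * b * s⁻¹) * (s * a * s⁻¹)⁻¹ * (s * b * s⁻¹)⁻¹ = s * c * s⁻¹ := by
      rw [hc]; group
    rw [e] at h3
    exact h3
  -- Step 1: `[Q, C] = Q`
  have hCp : IsPGroup p C := hS.to_le (hCE.trans hES)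
  have hcopCQ : (Nat.card C).Coprime (Nat.card Q) := by
    obtain ⟨u, hu⟩ := IsPGroup.iff_card.mp hCp
    obtain ⟨v, hv⟩ := IsPGroup.iff_card.mp hQ
    rw [hu, hv]
    exact Nat.Coprime.pow _ _ ((Nat.coprime_primes hp.out hq.out).mpr hpq)
  have hCsolv : Group.IsSolvable C := by
    haveI : Group.IsNilpotent C := hCp.isNilpotent
    infer_instance
  have hcc := Cfsg.Agent.Helper5.BGFwK.comm_comm_eq_of_coprime Q C hCQ hcopCQ hCsolv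
  have hQ₀Q : ⁅Q, C⁆ ≤ Q := Cfsg.Agent.Helper1.commutator_le_of_le_normalizer hCQ
  have hSQ₀ : S ≤ normalizer ((⁅Q, C⁆ : Subgroup Γ) : Set Γ) :=
    (le_inf hSQ hSC).trans
      (Cfsg.Agent.Helper1.normalizer_inf_normalizer_le_normalizer_commutator Q C)
  by_cases hQ₀ : ⁅Q, C⁆ = Q
  swap
  · have h1 := hred _ hQ₀Q hQ₀ hSQ₀
    have h2 : ⁅⁅Q, C⁆, C⁆ = ⊥ :=
      commutator_eq_bot_iff_le_centralizer.mpr (le_centralizer_iff.mp h1)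
    rw [hcc] at h2
    have h3 : Q ≤ centralizer (C : Set Γ) := commutator_eq_bot_iff_le_centralizer.mp h2
    exact le_centralizer_iff.mp h3 hcC
  -- Step 2: class two
  by_cases hQbot : Q = ⊥
  · rw [hQbot, mem_centralizer_iff]
    intro g hg
    rw [SetLike.mem_coe, mem_bot] at hg
    rw [hg, one_mul, mul_one]
  have hDlt : ⁅Q, Q⁆ < Q := commutator_lt_of_pgroup hQ hQbot
  have hSD : S ≤ normalizer ((⁅Q, Q⁆ : Subgroup Γ) : Set Γ) :=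
    (le_inf hSQ hSQ).trans
      (Cfsg.Agent.Helper1.normalizer_inf_normalizer_le_normalizer_commutator Q Q)
  have hCD : C ≤ centralizer ((⁅Q, Q⁆ : Subgroup Γ) : Set Γ) := hred _ hDlt.le hDlt.ne hSD
  have hDC : ⁅⁅Q, Q⁆, C⁆ = ⊥ :=
    commutator_eq_bot_iff_le_centralizer.mpr (le_centralizer_iff.mp hCD)
  have hQD_D : ⁅Q, ⁅Q, Q⁆⁆ ≤ ⁅Q, Q⁆ := commutator_mono le_rfl hDlt.le
  have h1 : ⁅⁅Q, ⁅Q, Q⁆⁆, C⁆ = ⊥ := by
    rw [eq_bot_iff, ← hDC]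
    exact commutator_mono hQD_D le_rfl
  have h2 : ⁅⁅⁅Q, Q⁆, C⁆, Q⁆ = ⊥ := by
    rw [hDC]
    exact commutator_bot_left Q
  have h3 : ⁅⁅C, Q⁆, ⁅Q, Q⁆⁆ = ⊥ := commutator_commutator_eq_bot_of_rotate h1 h2
  rw [commutator_comm C Q, hQ₀] at h3
  have hQcD : Q ≤ centralizer ((⁅Q, Q⁆ : Subgroup Γ) : Set Γ) :=
    commutator_eq_bot_iff_le_centralizer.mp h3
  have hcl : ∀ g ∈ Q, ∀ h ∈ Q, ∀ k ∈ Q,
      (g * h * g⁻¹ * h⁻¹) * k = k * (g * h * g⁻¹ * h⁻¹) := by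
    intro g hg h hh k hk
    have hd : g * h * g⁻¹ * h⁻¹ ∈ ⁅Q, Q⁆ := commutator_mem_commutator hg hh
    exact mem_centralizer_iff.mp (hQcD hk) _ hd
  -- Step 3: `E` centralises `[Q, Q]`
  have hEcD : E ≤ centralizer ((⁅Q, Q⁆ : Subgroup Γ) : Set Γ) := by
    rw [hE, closure_le, hEs]
    rintro _ ⟨s, hs, rfl⟩
    rw [SetLike.mem_coe, mem_centralizer_iff]
    intro d hd
    have hzs : s * z₂ * s⁻¹ ∈ S := S.mul_mem (S.mul_mem hs hz₂) (S.inv_mem hs)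
    have := hT.bb (s * z₂ * s⁻¹) k₂ (hT.conj z₂ k₂ h₂ s hs) hzs ⁅Q, Q⁆ hDlt.le
      (fun x hx y hy => mem_centralizer_iff.mp (hQcD (hDlt.le hy)) x hx)
      (fun x hx => (mem_normalizer_iff.mp (hSD hzs) x).mp hx) d hd
    rw [hconjpow] at this
    exact this.symm
  have hED : ∀ e ∈ E, ∀ g ∈ Q, ∀ h ∈ Q,
      e * (g * h * g⁻¹ * h⁻¹) = (g * h * g⁻¹ * h⁻¹) * e := by
    intro e he g hg h hh
    exact (mem_centralizer_iff.mp (hEcD he) _ (commutator_mem_commutator hg hh)).symm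
  -- Step 4
  have hz₁E : z₁ ∈ normalizer (E : Set Γ) :=
    (Cfsg.Agent.Helper1.le_normalizer_of_forall_conj_mem hSE) hz₁
  have key := step3 hpq Q E hQ hcl hEQ hEab hexp hED z₁ (hSQ hz₁) hz₁E k₁ (hT.pos z₁ k₁ h₁)
    (hT.pow z₁ k₁ h₁) (hT.bb z₁ k₁ h₁ hz₁) b hbE
  rw [← ha] at key
  rw [hc]
  exact key

/-- PIECE X-CORE: **socles of tight elements commute** (modulo the centraliser of `Q`). -/
theorem core [Finite Γ] {p q : ℕ} [Fact p.Prime] [Fact q.Prime] (hpq : p ≠ q)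
    (Q S : Subgroup Γ) (hQ : IsPGroup q Q) (hS : IsPGroup p S)
    (hSQ : S ≤ normalizer (Q : Set Γ)) (T : Γ → ℕ → Prop) (hT : TightSys p Q S T)
    (z₁ z₂ : Γ) (hz₁ : z₁ ∈ S) (hz₂ : z₂ ∈ S) (k₁ k₂ : ℕ) (h₁ : T z₁ k₁) (h₂ : T z₂ k₂) :
    z₁ ^ p ^ (k₁ - 1) * z₂ ^ p ^ (k₂ - 1) * (z₁ ^ p ^ (k₁ - 1))⁻¹ * (z₂ ^ p ^ (k₂ - 1))⁻¹ ∈
      centralizer (Q : Set Γ) :=
  core_aux hpq T (Nat.card S) S rfl hS (Nat.card Q) Q rfl hQ hSQ hT z₁ hz₁ z₂ hz₂ k₁ k₂ h₁ h₂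

end Cfsg.Agent.Helper3.HHX
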